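import Cfsg.Agent.KM.Rt.Tor
import Cfsg.Agent.DL.Dw.Points

/-!
# Dwork rationality for roots of a Frobenius map (helper41)
-/

set_option autoImplicit false
set_option linter.unusedSectionVars false

namespace Cfsg.Agent.KM.Rt

open MvPolynomial Filter Topology Cfsg.Agent.DL Cfsg.Agent.DL.Dw Cfsg.Agent.KM.Rt2

theorem prod_reorder {M : Type*} [CommMonoid M] {m d : ℕ} (hm : m.Coprime d) (h0 : 0 < m) (φ : ℕ → M)
    (hφ : ∀ i, φ (i % m) = φ i) : ∏ i ∈ Finset.range m, φ (d * i) = ∏ i ∈ Finset.range m, φ i := by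
  have hinj : Set.InjOn (fun i => d * i % m) (Finset.range m : Set ℕ) := fun i hi j hj h =>
    Nat.ModEq.eq_of_lt_of_lt (Nat.ModEq.cancel_left_of_coprime hm h) (by simpa using hi) (by simpa using hj)
  have h1 : (Finset.range m).image (fun i => d * i % m) = Finset.range m :=
    Finset.eq_of_subset_of_card_le (fun x hx => by
      obtain ⟨i, -, rfl⟩ := Finset.mem_image.1 hx
      exact Finset.mem_range.2 (Nat.mod_lt _ h0)) (Finset.card_image_of_injOn hinj).ge
  conv_rhs => rw [← h1, Finset.prod_image hinj]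
  simp only [hφ]

variable {k : Type} [Field k] {I J : Type} [Fintype I] [Fintype J] [DecidableEq I] [DecidableEq J] {n Q m : ℕ}

/-- the juxtaposition of two points -/
def jn (x : Fin (n + 1) × I → k) (y : Fin (n + 1) × J → k) : Fin (n + 1) × (I ⊕ J) → k :=
  fun z => Sum.elim (fun i => x (z.1, i)) (fun j => y (z.1, j)) z.2

theorem tau_jn (x : Fin (n + 1) × I → k) (y : Fin (n + 1) × J → k) (j : ℕ) :
    (tau n Q)^[j] (jn x y) = jn ((tau n Q)^[j] x) ((tau n Q)^[j] y) := by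
  induction j with
  | zero => rfl
  | succ j ih =>
    rw [Function.iterate_succ_apply', Function.iterate_succ_apply', Function.iterate_succ_apply', ih]
    funext z
    obtain ⟨t, i | i⟩ := z <;> rfl

theorem jn_inj {x x' : Fin (n + 1) × I → k} {y y' : Fin (n + 1) × J → k} (h : jn x y = jn x' y') : x = x' ∧ y = y' :=
  ⟨funext fun z => congrFun h (z.1, Sum.inl z.2), funext fun z => congrFun h (z.1, Sum.inr z.2)⟩

theorem sum_fixA_sum {E : Type*} [AddCommMonoid E] (hQ : 1 < Q) (h0 : 0 < m) {a b : ℕ} (hab : (n + 1) * b = m * a + 1)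
    (φ : (Fin (n + 1) × (I ⊕ J) → k) → E) :
    ∑ w ∈ fixA k (I ⊕ J) n Q m, φ w = ∑ x ∈ fixA k I n Q m, ∑ y ∈ fixF k (Q ^ m) (1 : Equiv.Perm J),
      φ (jn x fun z => y z.2 ^ Q ^ (b * z.1)) := by
  have hQm : 1 < Q ^ m := Nat.one_lt_pow h0.ne' hQ
  rw [← Finset.sum_product']
  refine (Finset.sum_bij (fun u _ => jn u.1 fun z => u.2 z.2 ^ Q ^ (b * z.1)) (fun u hu => ?_)
    (fun u _ v _ h => ?_) (fun w hw => ?_) fun _ _ => rfl).symm
  · obtain ⟨h1, h2⟩ := Finset.mem_product.1 hu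
    rw [mem_fixA hQ h0] at h1 ⊢
    rw [tau_jn, h1, fix_ext hab ((mem_fixF hQm).1 h2)]
  · obtain ⟨h1, h2⟩ := jn_inj h
    exact Prod.ext h1 (funext fun j => by simpa using congrFun h2 (0, j))
  · rw [mem_fixA hQ h0] at hw
    have h1 : jn (fun z => w (z.1, Sum.inl z.2)) (fun z => w (z.1, Sum.inr z.2)) = w := by
      funext z
      obtain ⟨t, i | i⟩ := z <;> rfl
    have h2 := tau_jn (Q := Q) (fun z => w (z.1, Sum.inl z.2)) (fun z => w (z.1, Sum.inr z.2)) m
    rw [h1, hw] at h2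
    refine ⟨(fun z => w (z.1, Sum.inl z.2), fun j => w (0, Sum.inr j)), Finset.mem_product.2
      ⟨(mem_fixA hQ h0).2 (jn_inj (h2.symm.trans h1.symm)).1, (mem_fixF hQm).2 fun j => pow_of_fix hw _⟩, ?_⟩
    rw [← h1]
    congr 1
    funext z
    exact (eq_of_fix hab hw z.1 _).symm

/-- the polynomial `∑ y_j f_j` -/
noncomputable def bigT (f : J → MvPolynomial (Fin (n + 1) × I) k) : MvPolynomial (Fin (n + 1) × (I ⊕ J)) k :=
  ∑ j, X (0, Sum.inr j) * rename (fun z : Fin (n + 1) × I => (z.1, Sum.inl z.2)) (f j)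

theorem eval_bigT (f : J → MvPolynomial (Fin (n + 1) × I) k) (x : Fin (n + 1) × I → k) (y : Fin (n + 1) × J → k) :
    eval (jn x y) (bigT f) = ∑ j, y (0, j) * eval x (f j) := by
  simp only [bigT, map_sum, map_mul, eval_X, eval_rename]
  rfl

theorem bigT_frob {p : ℕ} (hp : p.Prime) [CharP k p] {s : ℕ} {f : J → MvPolynomial (Fin (n + 1) × I) k}
    (hf : ∀ j u, coeff u (f j) ^ p ^ s = coeff u (f j)) (u : Fin (n + 1) × (I ⊕ J) →₀ ℕ) :
    coeff u (bigT f) ^ p ^ s = coeff u (bigT f) := by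
  have := Fact.mk hp
  have h1 : ∀ j, map (iterateFrobenius k p s) (f j) = f j := fun j => by
    ext v
    rw [coeff_map, iterateFrobenius_def, hf]
  have h2 : map (iterateFrobenius k p s) (bigT f) = bigT f := by
    simp only [bigT, map_sum, map_mul, map_X, map_rename, h1]
  conv_rhs => rw [← h2, coeff_map, iterateFrobenius_def]

open Classical in
theorem card_eq_filter (hQ : 1 < Q) (h0 : 0 < m) (f : J → MvPolynomial (Fin (n + 1) × I) k) :
    Nat.card {w : Fin (n + 1) × I → k // (∀ j, eval w (f j) = 0) ∧ (tau n Q)^[m] w = w} =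
      ((fixA k I n Q m).filter fun x => ∀ j, eval x (f j) = 0).card :=
  Nat.subtype_card _ fun x => by rw [Finset.mem_filter, mem_fixA hQ h0, and_comm]

theorem mero_cnt {p : ℕ} [Fact p.Prime] [IsAlgClosed k] [CharP k p] (hk : ∀ a : k, ∃ m, 0 < m ∧ a ^ p ^ m = a) {e : ℕ}
    (he : 0 < e) {f : J → MvPolynomial (Fin (n + 1) × I) k} (hf : ∀ j u, (f j).coeff u ^ p ^ e = (f j).coeff u) :
    Mero fun m => if m.Coprime (n + 1) then (RR n : ℂ_[p]) *
      (Nat.card {w : Fin (n + 1) × I → k // (∀ j, eval w (f j) = 0) ∧ (tau n (p ^ e))^[m] w = w} : ℕ) else 0 := by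
  classical
  have hp : p.Prime := Fact.out
  have hQ : 1 < p ^ e := Nat.one_lt_pow he.ne' hp.one_lt
  have hpE : ‖(p : ℂ_[p])‖ < 1 := by
    rw [← map_natCast (algebraMap ℚ_[p] ℂ_[p]), norm_algebraMap']
    exact Padic.norm_p_lt_one
  have hp0 : (p : ℂ_[p]) ≠ 0 := Nat.cast_ne_zero.2 hp.ne_zero
  obtain ⟨τ, hτ⟩ := exists_teich (E := ℂ_[p]) hp hpE hk
  have : NeZero (p : ℂ_[p]) := ⟨hp0⟩
  obtain ⟨ζ, hζ⟩ := HasEnoughRootsOfUnity.exists_primitiveRoot ℂ_[p] p
  obtain ⟨ρ, δ, G, hρ, -, hδ, hb, hc, -, hlim⟩ := exists_splitting hτ hp hζ hpE (bigT_frob hp hf)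
  choose! om hom using fun m x => hlim m 1 x (by simp)
  have hfx : ∀ {m} {w : Fin (n + 1) × (I ⊕ J) → k}, (tau n (p ^ e))^[m] w = w →
      ∀ z, w z ^ p ^ (e * m) = w ((1 : Equiv.Perm (Fin (n + 1) × (I ⊕ J))) z) := fun hw z => by
    rw [pow_mul]
    exact pow_of_fix hw z
  have h1 := mero_tor hp he n hτ hρ hδ hb hc om fun m hm hc w hw => by
    refine (hom m w (hfx hw)).2.congr fun N => ?_
    rw [← prod_reorder hc hm (fun i => eval (fun z => τ ((tau n (p ^ e))^[i] w z)) (G N)) fun i => ?_]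
    · simp only [tau_iter_mul, map_pow]
    · conv_rhs => rw [← Nat.mod_add_div i m, Function.iterate_add_apply, Function.iterate_mul,
        Function.iterate_fixed hw]
  refine (h1.geom_mul ((p : ℂ_[p]) ^ (e * Fintype.card J))⁻¹).congr fun m hm => ?_
  split_ifs with hc
  · obtain ⟨a, b, hab⟩ := exists_inv hc hm
    have hem : 0 < e * m := Nat.mul_pos he hm
    have hQm : 1 < (p ^ e) ^ m := Nat.one_lt_pow hm.ne' hQ
    rw [mul_left_comm, sum_fixA_sum hQ hm hab, card_eq_filter hQ hm, Finset.card_filter, Nat.cast_sum, Finset.mul_sum]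
    congr 1
    refine Finset.sum_congr rfl fun x hx => ?_
    rw [mem_fixA hQ hm] at hx
    rw [← pow_mul, sum_ch_lin (c := fun j => eval x (f j)) hτ hp hζ hpE hem (σ' := 1) (fun j => ?_) fun y hy => ?_]
    · split_ifs
      · push_cast
        rw [inv_pow, ← pow_mul, ← pow_mul, mul_right_comm, inv_mul_cancel₀ (pow_ne_zero _ hp0)]
      · simp
    · rw [pow_mul, ← eval_frob hp (hf j)]
      simp only [pow_of_fix hx]
      rfl
    · rw [pow_mul, mem_fixF hQm] at hy
      have h2 := (hom m _ (hfx ((tau_jn x _ m).trans (congrArg₂ jn hx (fix_ext hab hy))))).1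
      simpa only [eval_bigT, Fin.val_zero, mul_zero, pow_zero, pow_one] using h2
  · rw [mul_zero]

/-- **Dwork rationality for the fixed points of the powers of `tau`.** -/
theorem rtCoreR (n : ℕ) : RtCoreR (RR n) n := by
  intro p _ k _ _ _ hk e he I J _ _ f hf
  classical
  have hp : p.Prime := Fact.out
  have hQ : 1 < p ^ e := Nat.one_lt_pow he.ne' hp.one_lt
  obtain ⟨φ⟩ := nonempty_padicComplex_equiv p
  let N : ℕ → ℕ := fun m =>
    Nat.card {w : Fin (n + 1) × I → k // (∀ j, eval w (f j) = 0) ∧ (tau n (p ^ e))^[m] w = w}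
  let a : ℕ → ℤ := fun m => if m.Coprime (n + 1) then (RR n : ℤ) * N m else 0
  have hbd : ∀ m, 0 < m → |(a m : ℝ)| ≤ RR n * ((p : ℝ) ^ (e * Fintype.card (Fin (n + 1) × I))) ^ m := by
    intro m hm
    have h1 : N m ≤ (p ^ (e * m)) ^ Fintype.card (Fin (n + 1) × I) := by
      rw [← card_fixF (k := k) (σ := 1) hp (Nat.mul_pos he hm)]
      simp only [N]
      rw [card_eq_filter hQ hm, pow_mul]
      exact Finset.card_le_card fun w hw => (mem_fixF (Nat.one_lt_pow hm.ne' hQ)).2 fun z =>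
        pow_of_fix ((mem_fixA hQ hm).1 (Finset.mem_filter.1 hw).1) z
    simp only [a]
    split_ifs
    · rw [Int.cast_mul, Int.cast_natCast, Int.cast_natCast, ← Nat.cast_mul, Nat.abs_cast, Nat.cast_mul, ← pow_mul,
        mul_right_comm, pow_mul]
      exact mul_le_mul_of_nonneg_left (by exact_mod_cast h1) (Nat.cast_nonneg _)
    · rw [Int.cast_zero, abs_zero]
      positivity
  have hS : Mero fun m => (a m : ℂ_[p]) := (mero_cnt hk he hf).congr fun m _ => by
    simp only [a]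
    split_ifs
    · rw [Int.cast_mul, Int.cast_natCast, Int.cast_natCast]
    · rw [Int.cast_zero]
  obtain ⟨ν, h0, h1, h2⟩ := dwork_complex p φ (H := Unit) (fun _ m => a m) _ _ (fun _ => hbd) (fun _ => hS.quot)
    (fun _ => 1) (by simpa using hS)
  refine ⟨fun m => a m, Lef.expZ_of_finsupp ⟨ν, h0, h1, fun m hm => by simpa using h2 m hm⟩, fun m _ hc => ?_⟩
  simp only [a, if_pos hc, Int.cast_mul, Int.cast_natCast]
  rfl

/-- the core for every period -/
theorem rtCore_all (n : ℕ) : ∃ R, R ≠ 0 ∧ RtCoreR R n := ⟨RR n, RR_ne_zero n, rtCoreR n⟩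

end Cfsg.Agent.KM.Rt
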