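import Cfsg.Agent.KM.Rt.Mon
import Cfsg.Agent.DL.Dw.Avg

/-!
# The Dwork operator of a monomial map (helper41)
-/

set_option autoImplicit false
set_option linter.unusedSectionVars false

namespace Cfsg.Agent.KM.Rt

open MvPolynomial Filter Topology Cfsg.Agent.DL.Dw

variable {A : Type} [Fintype A] [DecidableEq A] {M : Matrix A A ℕ} {d Q : ℕ}

section alg

variable {E : Type*} [Field E]

/-- the pull-back of polynomials -/
noncomputable def pb (M : Matrix A A ℕ) : MvPolynomial A E →ₐ[E] MvPolynomial A E :=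
  aeval fun a => ∏ b, X b ^ M b a

theorem monomial_eq_mo (u : A →₀ ℕ) (c : E) : (monomial u c : MvPolynomial A E) = C c * mo X u := by
  rw [monomial_eq, Finsupp.prod_fintype _ _ (by simp)]
  rfl

theorem pb_monomial (M : Matrix A A ℕ) (u : A →₀ ℕ) (c : E) :
    pb M (monomial u c : MvPolynomial A E) = monomial (ex M u) c := by
  rw [pb, aeval_monomial, Finsupp.prod_fintype _ _ (by simp), monomial_eq_mo, ← mo_pt]
  rfl

theorem eval_pb (M : Matrix A A ℕ) (z : A → E) (f : MvPolynomial A E) : eval z (pb M f) = eval (pt M z) f := by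
  induction f using MvPolynomial.induction_on with
  | C a => simp [pb]
  | add P Q hP hQ => simp only [map_add, hP, hQ]
  | mul_X P i hP =>
    rw [map_mul, map_mul, map_mul, hP, eval_X, pb, aeval_X]
    simp only [map_prod, map_pow, eval_X, pt]

/-- the product of the pull-backs -/
noncomputable def hpb (M : Matrix A A ℕ) (G : MvPolynomial A E) (m : ℕ) : MvPolynomial A E :=
  ∏ i ∈ Finset.range m, pb (M ^ i) G

theorem IsRt.coeff_pb_mul (h : IsRt M d Q) (n : ℕ) (g f : MvPolynomial A E) (u : A →₀ ℕ)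
    (T : Finset (A →₀ ℕ)) (hT : ∀ w, coeff (ex (M ^ n) w) f ≠ 0 → w ∈ T) :
    ∑ w ∈ T, coeff u (g * monomial w 1) * coeff (ex (M ^ n) w) f = coeff (ex (M ^ n) u) (pb (M ^ n) g * f) := by
  induction g using MvPolynomial.induction_on' with
  | monomial a c =>
    rw [pb_monomial, coeff_monomial_mul']
    simp only [monomial_mul, coeff_monomial, mul_one]
    by_cases h0 : a ≤ u
    · have h2 : ex (M ^ n) u - ex (M ^ n) a = ex (M ^ n) (u - a) := by
        conv_lhs => rw [← add_tsub_cancel_of_le h0, map_add, add_tsub_cancel_left]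
      rw [if_pos (ex_mono _ h0), h2, Finset.sum_eq_single (u - a), if_pos (add_tsub_cancel_of_le h0)]
      · intro w _ hw
        rw [if_neg, zero_mul]
        rintro rfl
        exact hw (add_tsub_cancel_left a w).symm
      · intro h3
        rw [not_not.1 (mt (hT _) h3), mul_zero]
    · rw [if_neg fun h1 => h0 (h.le_of_le n h1)]
      refine Finset.sum_eq_zero fun w _ => ?_
      rw [if_neg, zero_mul]
      rintro rfl
      exact h0 le_self_add
  | add p q hp hq =>
    simp only [add_mul, coeff_add, map_add, Finset.sum_add_distrib, hp, hq]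

/-- the entries of the powers of the operator -/
noncomputable def ent (M : Matrix A A ℕ) (G : MvPolynomial A E) (n : ℕ) (u v : A →₀ ℕ) : E :=
  coeff (ex (M ^ n) u) (hpb M G n * monomial v 1)

theorem ent_zero (G : MvPolynomial A E) (u v : A →₀ ℕ) : ent M G 0 u v = if v = u then 1 else 0 := by
  rw [ent, pow_zero, ex_one, hpb, Finset.prod_range_zero, one_mul, coeff_monomial]

theorem IsRt.ent_succ (h : IsRt M d Q) (G : MvPolynomial A E) (n : ℕ) (u v : A →₀ ℕ) (T : Finset (A →₀ ℕ))
    (hT : ∀ w, ent M G n w v ≠ 0 → w ∈ T) :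
    ent M G (n + 1) u v = ∑ w ∈ T, coeff (ex M u) (G * monomial w 1) * ent M G n w v := by
  rw [ent, hpb, Finset.prod_range_succ_comm, pow_succ, ex_mul, mul_assoc]
  exact (h.coeff_pb_mul n G _ _ T hT).symm

/-- the weight -/
noncomputable def wt (M : Matrix A A ℕ) (d : ℕ) : (A →₀ ℕ) →+ ℕ :=
  ∑ i ∈ Finset.range d, Finsupp.degree.comp (ex (M ^ i))

theorem wt_apply (u : A →₀ ℕ) : wt M d u = ∑ i ∈ Finset.range d, Finsupp.degree (ex (M ^ i) u) := by
  rw [wt, AddMonoidHom.finsetSum_apply]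
  rfl

theorem IsRt.degree_le (h : IsRt M d Q) (u : A →₀ ℕ) : Finsupp.degree u ≤ wt M d u := by
  rw [wt_apply]
  refine le_trans ?_ (Finset.single_le_sum (f := fun i => Finsupp.degree (ex (M ^ i) u)) (fun _ _ => Nat.zero_le _)
    (Finset.mem_range.2 h.1))
  rw [pow_zero, ex_one]

theorem IsRt.wt_ex (h : IsRt M d Q) (u : A →₀ ℕ) : wt M d u + Finsupp.degree u ≤ wt M d (ex M u) := by
  have h1 := Finset.sum_range_succ (fun i => Finsupp.degree (ex (M ^ i) u)) d
  rw [Finset.sum_range_succ', pow_zero, ex_one, h.ex_pow, map_nsmul, smul_eq_mul] at h1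
  simp only [pow_succ, ex_mul, ← wt_apply] at h1
  have h2 : 2 * Finsupp.degree u ≤ Q * Finsupp.degree u := Nat.mul_le_mul_right _ h.2.1
  omega

theorem exists_wt_le (W : (A →₀ ℕ) →+ ℕ) : ∃ K, 0 < K ∧ ∀ u, W u ≤ K * Finsupp.degree u := by
  refine ⟨∑ a, W (Finsupp.single a 1) + 1, Nat.succ_pos _, fun u => ?_⟩
  induction u using Finsupp.induction_linear with
  | zero => simp
  | add u v hu hv => rw [map_add, map_add, mul_add]; exact add_le_add hu hv
  | single a n =>
    rw [Finsupp.degree_single, ← mul_one n, ← smul_eq_mul, ← Finsupp.smul_single, map_nsmul, smul_eq_mul, smul_eq_mul,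
      mul_one, mul_comm]
    refine Nat.mul_le_mul_right _ (Nat.le_succ_of_le ?_)
    exact Finset.single_le_sum (f := fun a => W (Finsupp.single a 1)) (fun _ _ => Nat.zero_le _) (Finset.mem_univ a)

theorem exists_of_coeff {G : MvPolynomial A E} {w v : A →₀ ℕ} (hw : coeff w (G * monomial v 1) ≠ 0) :
    ∃ g, w = g + v ∧ coeff w (G * monomial v 1) = coeff g G ∧ Finsupp.degree g ≤ G.totalDegree := by
  rw [coeff_mul_monomial'] at hw ⊢
  split_ifs at hw with h1
  · rw [mul_one] at hw
    refine ⟨w - v, (tsub_add_cancel_of_le h1).symm, by rw [if_pos h1, mul_one], ?_⟩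
    simpa [Finsupp.degree_apply, Finsupp.sum] using le_totalDegree (mem_support_iff.2 hw)
  · exact absurd rfl hw

theorem IsRt.step (h : IsRt M d Q) {K : ℕ} (hK : ∀ u, wt M d u ≤ K * Finsupp.degree u) {G : MvPolynomial A E}
    {u w : A →₀ ℕ} (hw : coeff (ex M u) (G * monomial w 1) ≠ 0) (hu : K * (K * G.totalDegree) < wt M d u) :
    wt M d u < wt M d w := by
  obtain ⟨g, h1, -, h2⟩ := exists_of_coeff hw
  have h3 := h.wt_ex u
  rw [h1, map_add] at h3
  have h4 : K * G.totalDegree < Finsupp.degree u := lt_of_mul_lt_mul_left (hu.trans_le (hK u)) (Nat.zero_le _)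
  have h5 := (hK g).trans (Nat.mul_le_mul_left K h2)
  omega

/-- the exponents of bounded weight -/
noncomputable def UW (M : Matrix A A ℕ) (d L : ℕ) : Finset (A →₀ ℕ) :=
  (Finsupp.finite_of_degree_le (σ := A) L).toFinset.filter fun u => wt M d u ≤ L

theorem IsRt.mem_UW (h : IsRt M d Q) {L : ℕ} {u : A →₀ ℕ} : u ∈ UW M d L ↔ wt M d u ≤ L := by
  simp only [UW, Finset.mem_filter, Set.Finite.mem_toFinset, Set.mem_ofPred_eq, and_iff_right_iff_imp]
  exact (h.degree_le u).trans

theorem IsRt.ent_mem (h : IsRt M d Q) {K : ℕ} (hK : ∀ u, wt M d u ≤ K * Finsupp.degree u) {G : MvPolynomial A E}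
    {L : ℕ} (hL : K * (K * G.totalDegree) ≤ L) {v : A →₀ ℕ} (hv : v ∈ UW M d L) (n : ℕ) (w : A →₀ ℕ)
    (hw : ent M G n w v ≠ 0) : w ∈ UW M d L := by
  induction n generalizing w with
  | zero =>
    rw [ent_zero] at hw
    split_ifs at hw with h1
    · exact h1 ▸ hv
    · exact absurd rfl hw
  | succ n ih =>
    rw [h.ent_succ G n w v _ ih] at hw
    obtain ⟨w', h1, h2⟩ := Finset.exists_ne_zero_of_sum_ne_zero hw
    rw [h.mem_UW] at h1 ⊢
    by_contra h3
    have := h.step hK (left_ne_zero_of_mul h2) (by omega)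
    omega

theorem IsRt.ent_diag (h : IsRt M d Q) {K : ℕ} (hK : ∀ u, wt M d u ≤ K * Finsupp.degree u) {G : MvPolynomial A E}
    (n : ℕ) (u : A →₀ ℕ) (hu : ent M G (n + 1) u u ≠ 0) : u ∈ UW M d (K * (K * G.totalDegree)) := by
  rw [h.mem_UW]
  by_contra h1
  rw [h.ent_succ G n u u _ (h.ent_mem hK (not_le.1 h1).le (h.mem_UW.2 le_rfl) n)] at hu
  obtain ⟨w', h2, h3⟩ := Finset.exists_ne_zero_of_sum_ne_zero hu
  rw [h.mem_UW] at h2
  have := h.step hK (left_ne_zero_of_mul h3) (not_le.1 h1)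
  omega

/-- the matrix of the operator -/
noncomputable def mat (M : Matrix A A ℕ) (G : MvPolynomial A E) (U : Finset (A →₀ ℕ)) : Matrix U U E :=
  fun u v => coeff (ex M u.1) (G * monomial v.1 1)

theorem IsRt.mat_pow (h : IsRt M d Q) {G : MvPolynomial A E} {U : Finset (A →₀ ℕ)}
    (hU : ∀ v ∈ U, ∀ n w, ent M G n w v ≠ 0 → w ∈ U) (n : ℕ) (u v : U) :
    (mat M G U ^ n) u v = ent M G n u.1 v.1 := by
  induction n generalizing u with
  | zero => simp only [pow_zero, ent_zero, Matrix.one_apply, Subtype.val_inj, eq_comm]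
  | succ n ih =>
    rw [pow_succ', Matrix.mul_apply, h.ent_succ G n _ _ U (hU v v.2 n), ← Finset.sum_coe_sort U]
    simp only [ih]
    rfl

end alg

variable {E : Type*} [NormedField E] [IsUltrametricDist E]

/-- **The normalised sums over the fixed points in the torus are traces of a nuclear operator.** -/
theorem IsRt.fred [CharZero E] {k : Type*} [Field k] [IsAlgClosed k] {p e : ℕ} (hp : p.Prime) [CharP k p]
    (h : IsRt M d (p ^ e)) {τ : k →*₀ E} (hτ : Function.Injective τ) {ρ : ℝ} (hρ : 1 < ρ)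
    {G : ℕ → MvPolynomial A E} (hG : ∀ N, Bd ρ 1 (G N)) {θ : (A → k) → E}
    (hθ : ∀ x, Tendsto (fun N => eval (fun a => τ (x a)) (G N)) atTop (𝓝 (θ x))) :
    Fred fun m => ((fixT k (M ^ m)).card : E)⁻¹ *
      ∑ x ∈ fixT k (M ^ m), ∏ i ∈ Finset.range m, θ ((pt M)^[i] x) := by
  obtain ⟨K, hK0, hK⟩ := exists_wt_le (wt M d)
  obtain ⟨r, hr1, hr⟩ : ∃ r : ℝ, 1 < r ∧ r ^ K = ρ :=
    ⟨ρ ^ (K⁻¹ : ℝ), Real.one_lt_rpow hρ (by positivity), Real.rpow_inv_natCast_pow (by linarith) hK0.ne'⟩
  have hr0 : 0 < r := by linarith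
  choose C hC using fun R : ℝ => exists_prod_bd (I := A) hr1 (max R 0) (by positivity)
  refine ⟨C, FredBd.of_tendsto (l := atTop) (S := fun N m => ((fixT k (M ^ m)).card : E)⁻¹ *
    ∑ x ∈ fixT k (M ^ m), ∏ i ∈ Finset.range m, eval (fun a => τ ((pt M)^[i] x a)) (G N)) (fun m _ => ?_)
    (Eventually.of_forall fun N => ?_)⟩
  · exact (tendsto_finsetSum _ fun x _ => tendsto_finsetProd _ fun i _ => hθ _).const_mul _
  · refine (fredBd_trace (mat M (G N) (UW M d (K * (K * (G N).totalDegree))))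
      (fun u => 1 / r ^ Finsupp.degree u.1) (fun u => r ^ wt M d u.1)
      (fun u => by positivity) (fun u => by positivity) (fun u v => ?_) C fun R hR J => ?_).congr
      fun m hm => ?_
    · by_cases h0 : mat M (G N) _ u v = 0
      · rw [h0, norm_zero, zero_mul]; positivity
      obtain ⟨g, h1, h2, -⟩ := exists_of_coeff h0
      have h3 := h.wt_ex u.1
      rw [h1, map_add] at h3
      have h4 : ‖coeff g (G N)‖ * r ^ wt M d g ≤ 1 := by
        refine le_trans (mul_le_mul_of_nonneg_left ?_ (norm_nonneg _)) (hG N g)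
        rw [← hr, ← pow_mul]
        exact pow_le_pow_right₀ hr1.le (hK g)
      rw [mat, h2, one_div, inv_mul_eq_div, le_div_iff₀ (by positivity), mul_assoc, ← pow_add]
      calc _ ≤ ‖coeff g (G N)‖ * r ^ (wt M d g + wt M d v.1) :=
            mul_le_mul_of_nonneg_left (pow_le_pow_right₀ hr1.le h3) (norm_nonneg _)
        _ ≤ _ := by
            rw [pow_add, ← mul_assoc]
            exact mul_le_of_le_one_left (by positivity) h4
    · have h1 := hC R (J.map (Function.Embedding.subtype _))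
      rw [Finset.prod_map, max_eq_left (by linarith : (0 : ℝ) ≤ R)] at h1
      refine le_of_eq_of_le (Finset.prod_congr rfl fun u _ => ?_) h1
      simp only [Function.Embedding.coe_subtype]
      ring
    · obtain ⟨n, rfl⟩ : ∃ n, m = n + 1 := ⟨m - 1, by omega⟩
      have h1 := h.pow (Nat.succ_pos n)
      have h2 : ((fixT k (M ^ (n + 1))).card : E) ≠ 0 := Nat.cast_ne_zero.2 h1.card_ne_zero
      rw [← pow_mul] at h1
      have h3 := h1.trace_formula hp hτ (hpb M (G N) (n + 1)) _ (h.ent_diag hK n)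
      simp only [hpb, map_prod, eval_pb, pt_map, pt_pow] at h3
      rw [h3, inv_mul_cancel_left₀ h2, ← Finset.sum_coe_sort]
      refine Finset.sum_congr rfl fun u _ => ?_
      rw [Matrix.diag_apply, h.mat_pow fun v hv => h.ent_mem hK le_rfl hv]
      rfl

end Cfsg.Agent.KM.Rt
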