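import Cfsg.Agent.DL.Dw.Fix

/-!
# Monomial maps, their fixed points in a torus and the trace formula (helper41)

`M` is a matrix of natural numbers with `M ^ d = Q`.  It acts on exponents (`act M`) and on points (`pt M`).
-/

set_option autoImplicit false
set_option linter.unusedSectionVars false

namespace Cfsg.Agent.KM.Rt

open MvPolynomial Cfsg.Agent.DL.Dw

variable {A : Type} [Fintype A] [DecidableEq A]

/-- the action on exponents -/
noncomputable def ex (M : Matrix A A ℕ) : (A →₀ ℕ) →+ (A →₀ ℕ) where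
  toFun u := Finsupp.equivFunOnFinite.symm (M.mulVec u)
  map_zero' := by ext a; simp
  map_add' u v := by ext a; simp [Matrix.mulVec_add]

theorem ex_apply (M : Matrix A A ℕ) (u : A →₀ ℕ) (b : A) : ex M u b = ∑ a, M b a * u a := rfl

theorem coe_ex (M : Matrix A A ℕ) (u : A →₀ ℕ) : (ex M u : A → ℕ) = M.mulVec u := rfl

theorem ex_mul (M M' : Matrix A A ℕ) (u : A →₀ ℕ) : ex (M * M') u = ex M (ex M' u) := by
  apply DFunLike.coe_injective
  simp only [coe_ex, Matrix.mulVec_mulVec]

theorem ex_one (u : A →₀ ℕ) : ex (1 : Matrix A A ℕ) u = u := by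
  apply DFunLike.coe_injective
  simp only [coe_ex, Matrix.one_mulVec]

theorem ex_single (M : Matrix A A ℕ) (a b : A) : ex M (Finsupp.single a 1) b = M b a := by
  rw [ex_apply, Finset.sum_eq_single a]
  · simp
  · intro c _ hc
    rw [Finsupp.single_eq_of_ne hc, mul_zero]
  · intro h; exact absurd (Finset.mem_univ _) h

theorem ex_mono (M : Matrix A A ℕ) {u v : A →₀ ℕ} (h : u ≤ v) : ex M u ≤ ex M v := by
  rw [← add_tsub_cancel_of_le h, map_add]
  exact le_self_add

/-- `M` is a root of the scalar `Q` -/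
def IsRt (M : Matrix A A ℕ) (d Q : ℕ) : Prop := 0 < d ∧ 1 < Q ∧ M ^ d = Q • (1 : Matrix A A ℕ)

variable {M : Matrix A A ℕ} {d Q : ℕ}

theorem IsRt.ex_pow (h : IsRt M d Q) (u : A →₀ ℕ) : ex (M ^ d) u = Q • u := by
  apply DFunLike.coe_injective
  simp only [coe_ex, h.2.2, Matrix.smul_mulVec, Matrix.one_mulVec, Finsupp.coe_smul]

theorem IsRt.pow (h : IsRt M d Q) {m : ℕ} (hm : 0 < m) : IsRt (M ^ m) d (Q ^ m) :=
  ⟨h.1, Nat.one_lt_pow hm.ne' h.2.1, by rw [← pow_mul, mul_comm, pow_mul, h.2.2, smul_pow, one_pow]⟩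

theorem IsRt.le_of_le (h : IsRt M d Q) (m : ℕ) {u v : A →₀ ℕ} (huv : ex (M ^ m) u ≤ ex (M ^ m) v) : u ≤ v := by
  obtain ⟨c, hc⟩ : ∃ c, d = c + 1 := ⟨d - 1, by have := h.1; omega⟩
  have h1 := ex_mono (M ^ (m * c)) huv
  rw [← ex_mul, ← ex_mul, ← pow_add, show m * c + m = d * m by rw [hc]; ring, pow_mul, h.2.2, smul_pow, one_pow] at h1
  intro a
  have h2 := h1 a
  simp only [coe_ex, Matrix.smul_mulVec, Matrix.one_mulVec, Pi.smul_apply, smul_eq_mul] at h2
  exact Nat.le_of_mul_le_mul_left h2 (pow_pos (by have := h.2.1; omega) m)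

theorem IsRt.unique (h : IsRt M d Q) {w u v : A →₀ ℕ} (hu : ex M u = w + u) (hv : ex M v = w + v) : u = v := by
  have h0 : ex M u + v = ex M v + u := by rw [hu, hv]; abel
  have h1 : ∀ j, ex (M ^ j) u + v = ex (M ^ j) v + u := fun j => by
    induction j with
    | zero => rw [pow_zero, ex_one, ex_one, add_comm]
    | succ j ih =>
      have h2 := congrArg (ex (M ^ j)) h0
      rw [map_add, map_add, ← ex_mul, ← ex_mul, ← pow_succ] at h2
      ext a
      have h3 := DFunLike.congr_fun h2 a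
      have h4 := DFunLike.congr_fun ih a
      simp only [Finsupp.coe_add, Pi.add_apply] at h3 h4 ⊢
      omega
  have h2 := h1 d
  rw [h.ex_pow, h.ex_pow] at h2
  ext a
  have h3 := DFunLike.congr_fun h2 a
  simp only [Finsupp.coe_add, Pi.add_apply, Finsupp.coe_smul, Pi.smul_apply, smul_eq_mul] at h3
  obtain ⟨N, hN⟩ : ∃ N, Q = N + 2 := ⟨Q - 2, by have := h.2.1; omega⟩
  rw [hN] at h3
  have h4 : (N + 1) * u a = (N + 1) * v a := by linarith
  exact Nat.eq_of_mul_eq_mul_left (Nat.succ_pos N) h4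

section points

variable {k : Type*} [CommMonoid k]

/-- the value of a monomial -/
def mo (x : A → k) (u : A →₀ ℕ) : k := ∏ a, x a ^ u a

theorem mo_add (x : A → k) (u v : A →₀ ℕ) : mo x (u + v) = mo x u * mo x v := by
  simp only [mo, Finsupp.coe_add, Pi.add_apply, pow_add, Finset.prod_mul_distrib]

theorem mo_mul (x y : A → k) (u : A →₀ ℕ) : mo (x * y) u = mo x u * mo y u := by
  simp only [mo, Pi.mul_apply, mul_pow, Finset.prod_mul_distrib]

/-- the action on points -/
def pt (M : Matrix A A ℕ) (x : A → k) : A → k := fun a => ∏ b, x b ^ M b a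

theorem mo_pt (M : Matrix A A ℕ) (x : A → k) (u : A →₀ ℕ) : mo (pt M x) u = mo x (ex M u) := by
  simp only [mo, pt, ex_apply, ← Finset.prod_pow, ← pow_mul, ← Finset.prod_pow_eq_pow_sum]
  exact Finset.prod_comm

theorem pt_mul (M M' : Matrix A A ℕ) (x : A → k) : pt (M * M') x = pt M' (pt M x) := by
  funext a
  simp only [pt, Matrix.mul_apply, ← Finset.prod_pow, ← pow_mul, ← Finset.prod_pow_eq_pow_sum]
  exact Finset.prod_comm

theorem pt_smul_one (Q : ℕ) (x : A → k) : pt (Q • (1 : Matrix A A ℕ)) x = fun a => x a ^ Q := by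
  funext a
  rw [pt, Finset.prod_eq_single a]
  · simp
  · intro b _ hb
    simp [Matrix.one_apply_ne hb]
  · intro h; exact absurd (Finset.mem_univ _) h

theorem pt_one (x : A → k) : pt (1 : Matrix A A ℕ) x = x := by
  simpa using pt_smul_one 1 x

theorem pt_pow (M : Matrix A A ℕ) (m : ℕ) (x : A → k) : pt (M ^ m) x = (pt M)^[m] x := by
  induction m with
  | zero => rw [pow_zero, pt_one]; rfl
  | succ m ih => rw [pow_succ, pt_mul, ih, Function.iterate_succ_apply']

theorem pt_mul_pt (M : Matrix A A ℕ) (x y : A → k) : pt M (x * y) = pt M x * pt M y := by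
  funext a
  simp only [pt, Pi.mul_apply, mul_pow, Finset.prod_mul_distrib]

theorem pt_map {k' F : Type*} [CommMonoid k'] [FunLike F k k'] [MonoidHomClass F k k'] (τ : F) (M : Matrix A A ℕ)
    (x : A → k) : pt M (fun a => τ (x a)) = fun a => τ (pt M x a) := by
  funext a
  simp only [pt, map_prod, map_pow]

theorem IsRt.frob_of_fix (h : IsRt M d Q) {x : A → k} (hx : pt M x = x) (a : A) : x a ^ Q = x a := by
  have h1 : pt (M ^ d) x = x := by rw [pt_pow]; exact Function.iterate_fixed hx d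
  rw [h.2.2, pt_smul_one] at h1
  exact congrFun h1 a

end points

section field

variable {k : Type*} [Field k]

theorem IsRt.finite (h : IsRt M d Q) : {x : A → k | (∀ a, x a ≠ 0) ∧ pt M x = x}.Finite :=
  (Set.Finite.pi' fun _ : A => finite_roots (k := k) h.2.1).subset fun _ hx a => h.frob_of_fix hx.2 a

open Classical in
/-- the fixed points in the torus -/
noncomputable def fixT (k : Type*) [Field k] (M : Matrix A A ℕ) : Finset (A → k) :=
  if h : {x : A → k | (∀ a, x a ≠ 0) ∧ pt M x = x}.Finite then h.toFinset else ∅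

theorem IsRt.mem_fixT (h : IsRt M d Q) {x : A → k} : x ∈ fixT k M ↔ (∀ a, x a ≠ 0) ∧ pt M x = x := by
  rw [fixT, dif_pos h.finite, Set.Finite.mem_toFinset]
  rfl

theorem IsRt.card_ne_zero (h : IsRt M d Q) : (fixT k M).card ≠ 0 :=
  Finset.card_ne_zero.2 ⟨1, h.mem_fixT.2 ⟨fun _ => one_ne_zero, by funext a; simp [pt]⟩⟩

theorem IsRt.exists_fix_ne_one [IsAlgClosed k] {p e : ℕ} (hp : p.Prime) [CharP k p] (h : IsRt M d (p ^ e))
    {w : A →₀ ℕ} (hw : ¬ ∃ u : A →₀ ℕ, ex M u = w + u) :
    ∃ x : A → k, (∀ a, x a ≠ 0) ∧ pt M x = x ∧ mo x w ≠ 1 := by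
  have hQ := h.2.1
  have he : e ≠ 0 := by rintro rfl; simp at hQ
  set Q := p ^ e with hQd
  let Z : Matrix A A ℤ := M.map (Nat.castRingHom ℤ)
  have hZ : ∀ j, Z ^ j = (M ^ j).map (Nat.castRingHom ℤ) := fun j => (Matrix.map_pow _ _ _).symm
  have hZd : ∀ v : A → ℤ, (Z ^ d).mulVec v = Q • v := fun v => by
    rw [hZ, h.2.2]
    funext a
    rw [Matrix.mulVec, dotProduct, Finset.sum_eq_single a]
    · rw [Matrix.map_apply, Matrix.smul_apply, Matrix.one_apply_eq]
      simp
    · intro b _ hb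
      rw [Matrix.map_apply, Matrix.smul_apply, Matrix.one_apply_ne hb.symm]
      simp
    · intro h; exact absurd (Finset.mem_univ _) h
  let L : (A → ℤ) →+ (A → ℤ) :=
    { toFun := fun u => Z.mulVec u - u
      map_zero' := by simp
      map_add' := fun u v => by rw [Matrix.mulVec_add]; abel }
  let C := (A → ℤ) ⧸ L.range
  let π : (A → ℤ) →+ C := QuotientAddGroup.mk' _
  have hπ : ∀ v : A → ℤ, π (Z.mulVec v) = π v := fun v => by
    rw [← sub_eq_zero, ← map_sub]
    exact (QuotientAddGroup.eq_zero_iff _).2 ⟨v, rfl⟩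
  have hπ' : ∀ (j : ℕ) (v : A → ℤ), π ((Z ^ j).mulVec v) = π v := fun j => by
    induction j with
    | zero => intro v; simp
    | succ j ih => intro v; rw [pow_succ', ← Matrix.mulVec_mulVec, hπ, ih]
  obtain ⟨N, hN⟩ : ∃ N, Q = N + 1 := ⟨Q - 1, by omega⟩
  have hkill : ∀ a : C, N • a = 0 := fun a => by
    obtain ⟨v, rfl⟩ := QuotientAddGroup.mk'_surjective _ a
    have := hπ' d v
    rw [hZd, map_nsmul, hN, succ_nsmul] at this
    exact add_eq_right.1 this
  have hfin : Finite C := by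
    refine AddCommGroup.finite_of_fg_isAddTorsion C fun a => ?_
    exact isOfFinAddOrder_iff_nsmul_eq_zero.2 ⟨N, by omega, hkill a⟩
  have hNk : NeZero (N : k) := ⟨fun h0 => by
    have h1 : ((Q : ℕ) : k) = 0 := by
      rw [CharP.cast_eq_zero_iff k p]
      exact dvd_pow_self p he
    rw [hN, Nat.cast_succ, h0, zero_add] at h1
    exact one_ne_zero h1⟩
  have hN0 : NeZero N := ⟨by omega⟩
  have hroots : HasEnoughRootsOfUnity k (Monoid.exponent (Multiplicative C)) := by
    refine HasEnoughRootsOfUnity.of_dvd k (n := N) ?_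
    exact Monoid.exponent_dvd_of_forall_pow_eq_one fun a => congrArg Multiplicative.ofAdd (hkill a.toAdd)
  have hne : Multiplicative.ofAdd (π fun i => (w i : ℤ)) ≠ 1 := by
    intro h0
    obtain ⟨v, hv⟩ := (QuotientAddGroup.eq_zero_iff _).1 (Multiplicative.ofAdd.injective h0)
    have hv' : Z.mulVec v = (fun i => (w i : ℤ)) + v := eq_add_of_sub_eq hv
    have h1 : ∀ j a, v a ≤ (Z ^ j).mulVec v a := fun j a => by
      induction j with
      | zero => simp
      | succ j ih =>
        rw [pow_succ, ← Matrix.mulVec_mulVec, hv', Matrix.mulVec_add, Pi.add_apply]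
        refine ih.trans (le_add_of_nonneg_left ?_)
        rw [hZ]
        exact Finset.sum_nonneg fun b _ => mul_nonneg (Nat.cast_nonneg _) (Nat.cast_nonneg _)
    have hpos : ∀ a, 0 ≤ v a := fun a => by
      have h2 := h1 d a
      rw [hZd, hN] at h2
      simp only [Pi.smul_apply, nsmul_eq_mul, Nat.cast_add, Nat.cast_one] at h2
      have h3 : (0 : ℤ) < N := by exact_mod_cast Nat.pos_of_ne_zero hN0.out
      nlinarith
    refine hw ⟨Finsupp.equivFunOnFinite.symm fun i => (v i).toNat, ?_⟩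
    ext a
    have h2 := congrFun hv' a
    simp only [ex_apply, Finsupp.coe_add, Pi.add_apply, Finsupp.coe_equivFunOnFinite_symm]
    zify
    simp only [Int.toNat_of_nonneg (hpos _)]
    exact h2
  obtain ⟨χ, hχ⟩ := CommGroup.exists_apply_ne_one_of_hasEnoughRootsOfUnity _ k hne
  have hmo : ∀ u : A → ℕ, ∏ a, (χ (Multiplicative.ofAdd (π (Pi.single a 1))) : k) ^ u a =
      (χ (Multiplicative.ofAdd (π fun a => (u a : ℤ))) : k) := fun u => by
    simp only [← Units.val_pow_eq_pow_val, ← map_pow, ← ofAdd_nsmul, ← map_nsmul]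
    rw [← Units.coe_prod, ← map_prod, ← ofAdd_sum, ← map_sum]
    congr 4
    funext j
    simp [Finset.sum_apply, Pi.single_apply]
  refine ⟨fun i => (χ (Multiplicative.ofAdd (π (Pi.single i 1))) : k), fun i => Units.ne_zero _,
    funext fun a => ?_, fun h0 => hχ ?_⟩
  · rw [pt, hmo, ← hπ (Pi.single a 1)]
    congr 4
    funext b
    simp [Z]
  · apply Units.ext
    rw [Units.val_one, ← h0, mo, hmo]

variable {E : Type*} [Field E]

open Classical in
theorem IsRt.sum_mo [IsAlgClosed k] {p e : ℕ} (hp : p.Prime) [CharP k p] (h : IsRt M d (p ^ e))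
    {τ : k →*₀ E} (hτ : Function.Injective τ) (w : A →₀ ℕ) :
    ∑ x ∈ fixT k M, τ (mo x w) = if ∃ u : A →₀ ℕ, ex M u = w + u then ((fixT k M).card : E) else 0 := by
  split_ifs with hw
  · obtain ⟨u, hu⟩ := hw
    rw [Finset.card_eq_sum_ones, Nat.cast_sum]
    refine Finset.sum_congr rfl fun x hx => ?_
    obtain ⟨h0, h1⟩ := h.mem_fixT.1 hx
    have h2 := mo_pt M x u
    rw [h1, hu, mo_add] at h2
    have h3 : mo x u ≠ 0 := Finset.prod_ne_zero_iff.2 fun a _ => pow_ne_zero _ (h0 a)
    rw [mul_right_cancel₀ h3 (h2.symm.trans (one_mul _).symm), map_one, Nat.cast_one]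
  · obtain ⟨x₀, h0, h1, h2⟩ := h.exists_fix_ne_one (k := k) hp hw
    have hinv : x₀⁻¹ * x₀ = 1 := funext fun a => inv_mul_cancel₀ (h0 a)
    have h3 : ∑ x ∈ fixT k M, τ (mo x w) = ∑ x ∈ fixT k M, τ (mo x₀ w) * τ (mo x w) := by
      symm
      refine Finset.sum_bij' (fun x _ => x₀ * x) (fun x _ => x₀⁻¹ * x) ?_ ?_ ?_ ?_ ?_
      · intro x hx
        rw [h.mem_fixT] at hx ⊢
        exact ⟨fun a => mul_ne_zero (h0 a) (hx.1 a), by rw [pt_mul_pt, h1, hx.2]⟩
      · intro x hx
        rw [h.mem_fixT] at hx ⊢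
        refine ⟨fun a => mul_ne_zero (inv_ne_zero (h0 a)) (hx.1 a), funext fun a => ?_⟩
        have h4 := congrFun (pt_mul_pt M x₀ (x₀⁻¹ * x)) a
        rw [← mul_assoc, mul_comm x₀, hinv, one_mul, hx.2, h1, Pi.mul_apply] at h4
        rw [Pi.mul_apply, h4, Pi.inv_apply, inv_mul_cancel_left₀ (h0 a)]
      · intro x _; rw [← mul_assoc, hinv, one_mul]
      · intro x _; rw [← mul_assoc, mul_comm x₀, hinv, one_mul]
      · intro x _
        rw [← map_mul, mo_mul]
    rw [← Finset.mul_sum] at h3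
    have h4 : τ (mo x₀ w) ≠ 1 := fun h5 => h2 (hτ (h5.trans (map_one τ).symm))
    have h5 : (τ (mo x₀ w) - 1) * ∑ x ∈ fixT k M, τ (mo x w) = 0 := by
      linear_combination -h3
    exact (mul_eq_zero.1 h5).resolve_left (sub_ne_zero.2 h4)

/-- **The trace formula on the torus.** -/
theorem IsRt.trace_formula [IsAlgClosed k] {p e : ℕ} (hp : p.Prime) [CharP k p] (h : IsRt M d (p ^ e))
    {τ : k →*₀ E} (hτ : Function.Injective τ) (f : MvPolynomial A E) (U : Finset (A →₀ ℕ))
    (hU : ∀ u, coeff (ex M u) (f * monomial u 1) ≠ 0 → u ∈ U) :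
    ∑ x ∈ fixT k M, eval (fun a => τ (x a)) f =
      ((fixT k M).card : E) * ∑ u ∈ U, coeff (ex M u) (f * monomial u 1) := by
  classical
  have hc : ∀ u, coeff (ex M u) (f * monomial u 1) =
      ∑ w ∈ f.support, coeff w f * if ex M u = w + u then 1 else 0 := fun u => by
    conv_lhs => rw [f.as_sum, Finset.sum_mul, coeff_sum]
    refine Finset.sum_congr rfl fun w _ => ?_
    rw [monomial_mul, coeff_monomial]
    simp only [eq_comm (a := ex M u), mul_one, mul_ite, mul_zero]
  have hL : ∀ x : A → k, eval (fun a => τ (x a)) f = ∑ w ∈ f.support, coeff w f * τ (mo x w) := fun x => by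
    rw [eval_eq']
    simp only [mo, map_prod, map_pow]
  simp only [hL, hc]
  rw [Finset.sum_comm, Finset.sum_comm (s := U), Finset.mul_sum]
  refine Finset.sum_congr rfl fun w hw => ?_
  rw [← Finset.mul_sum, ← Finset.mul_sum, mul_left_comm, h.sum_mo hp hτ]
  congr 1
  split_ifs with hex
  · obtain ⟨u, hu⟩ := hex
    rw [Finset.sum_eq_single u, if_pos hu, mul_one]
    · intro v _ hv
      exact if_neg fun h2 => hv (h.unique h2 hu)
    · intro h2
      refine absurd (hU u ?_) h2
      rw [hu, coeff_mul_monomial, mul_one]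
      exact mem_support_iff.1 hw
  · rw [Finset.sum_eq_zero, mul_zero]
    exact fun u _ => if_neg fun h2 => hex ⟨u, h2⟩

end field

end Cfsg.Agent.KM.Rt
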