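import Cfsg.Agent.KM.Rt.Fred
import Cfsg.Agent.KM.Rt2.Out

/-!
# The sums over the fixed points of the root of a Frobenius map are meromorphic (helper41)
-/

set_option autoImplicit false
set_option linter.unusedSectionVars false

namespace Cfsg.Agent.KM.Rt

open MvPolynomial Filter Topology Cfsg.Agent.DL.Dw Cfsg.Agent.KM.Rt2

section mult

variable {E : Type*} [NormedField E] [IsUltrametricDist E] [IsAlgClosed E] [CharZero E]

theorem mero_prime {S : ℕ → E} (hS : Mero S) {r : ℕ} (hr : r.Prime) :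
    Mero fun m => if r ∣ m then 0 else (r : E) * S m := by
  have : NeZero (r : E) := ⟨Nat.cast_ne_zero.2 hr.ne_zero⟩
  obtain ⟨ζ, hζ⟩ := HasEnoughRootsOfUnity.exists_primitiveRoot E r
  refine ((hS.nsmul r).sub (Mero.sum (Finset.range r) _ fun i _ => hS.geom_mul (ζ ^ i))).congr fun m _ => ?_
  simp only [← Finset.sum_mul, pow_right_comm ζ _ m]
  split_ifs with h
  · rw [(hζ.pow_eq_one_iff_dvd m).2 h]
    simp
  · rw [(hζ.pow_of_coprime m (Nat.Coprime.symm (hr.coprime_iff_not_dvd.2 h))).geom_sum_eq_zero hr.one_lt, zero_mul, sub_zero]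

theorem mero_primes {S : ℕ → E} (hS : Mero S) (s : Finset ℕ) (hs : ∀ r ∈ s, r.Prime) :
    Mero fun m => if ∀ r ∈ s, ¬ r ∣ m then ((∏ r ∈ s, r : ℕ) : E) * S m else 0 := by
  induction s using Finset.induction_on with
  | empty => simpa using hS
  | insert r s hr ih =>
    refine (mero_prime (ih fun a ha => hs a (Finset.mem_insert_of_mem ha)) (hs r (Finset.mem_insert_self _ _))).congr
      fun m _ => ?_
    simp only [Finset.forall_mem_insert, Finset.prod_insert hr, Nat.cast_mul]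
    by_cases h1 : r ∣ m
    · simp [h1]
    · by_cases h2 : ∀ a ∈ s, ¬ a ∣ m
      · rw [if_neg h1, if_pos h2, if_pos ⟨h1, h2⟩, mul_assoc]
      · rw [if_neg h1, if_neg h2, if_neg fun h => h2 h.2, mul_zero]

/-- the product of the prime factors of `n + 1` -/
def RR (n : ℕ) : ℕ := ∏ r ∈ (n + 1).primeFactors, r

theorem RR_ne_zero (n : ℕ) : RR n ≠ 0 :=
  Finset.prod_ne_zero_iff.2 fun _ hr => (Nat.prime_of_mem_primeFactors hr).ne_zero

theorem mero_coprime {S : ℕ → E} (hS : Mero S) (n : ℕ) :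
    Mero fun m => if m.Coprime (n + 1) then (RR n : E) * S m else 0 := by
  refine (mero_primes hS (n + 1).primeFactors fun r hr => Nat.prime_of_mem_primeFactors hr).congr fun m _ => ?_
  refine if_congr ⟨fun h => Nat.Coprime.symm (Nat.coprime_of_dvd fun r hr h1 => h r ?_), fun h r hr h1 => ?_⟩ rfl rfl
  · exact Nat.mem_primeFactors.2 ⟨hr, h1, n.succ_ne_zero⟩
  · exact (Nat.prime_of_mem_primeFactors hr).one_lt.ne'
      (Nat.eq_one_of_dvd_coprimes h h1 (Nat.dvd_of_mem_primeFactors hr))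

omit [IsAlgClosed E] [CharZero E] in
theorem mero_sub_one_pow {S : ℕ → E} (hS : Mero S) (a : E) (j : ℕ) : Mero fun m => (a ^ m - 1) ^ j * S m := by
  induction j with
  | zero => simpa using hS
  | succ j ih => exact ((ih.geom_mul a).sub ih).congr fun m _ => by ring

end mult

variable {I : Type} [Fintype I] [DecidableEq I] {n Q : ℕ}

/-- the matrix of `tau` -/
def Mt (n Q : ℕ) (I : Type) [DecidableEq I] : Matrix (Fin (n + 1) × I) (Fin (n + 1) × I) ℕ :=
  fun b a => if b = (a.1 + 1, a.2) then (if a.1 = Fin.last n then Q else 1) else 0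

theorem pt_Mt {k : Type} [Field k] : pt (Mt n Q I) = (tau n Q : (Fin (n + 1) × I → k) → _) := by
  funext w a
  rw [pt, Finset.prod_eq_single (a.1 + 1, a.2)]
  · simp only [Mt, if_true, tau]
  · intro b _ hb
    simp only [Mt, if_neg hb, pow_zero]
  · intro h; exact absurd (Finset.mem_univ _) h

theorem eq_of_pt {A : Type} [Fintype A] [DecidableEq A] {M M' : Matrix A A ℕ}
    (h : ∀ x : A → ℚ, pt M x = pt M' x) : M = M' := by
  ext b a
  have h1 : ∀ N : Matrix A A ℕ, pt N (Function.update (1 : A → ℚ) b 2) a = 2 ^ N b a := fun N => by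
    rw [pt, Finset.prod_eq_single b]
    · simp
    · intro c _ hc
      simp [Function.update_of_ne hc]
    · intro h; exact absurd (Finset.mem_univ _) h
  have h2 := congrFun (h (Function.update 1 b 2)) a
  rw [h1, h1] at h2
  exact pow_right_injective₀ two_pos (by norm_num) h2

theorem isRt_Mt (hQ : 1 < Q) : IsRt (Mt n Q I) (n + 1) Q := by
  refine ⟨n.succ_pos, hQ, eq_of_pt fun x => ?_⟩
  rw [pt_pow, pt_smul_one, pt_Mt]
  funext z
  simpa using tau_iter_mul (Q := Q) 1 x z

section fix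

variable {k : Type} [Field k] {m : ℕ}

open Classical in
/-- the fixed points of a power of `tau` -/
noncomputable def fixA (k : Type) [Field k] (I : Type) (n Q m : ℕ) : Finset (Fin (n + 1) × I → k) :=
  if h : {w : Fin (n + 1) × I → k | (tau n Q)^[m] w = w}.Finite then h.toFinset else ∅

theorem mem_fixA (hQ : 1 < Q) (hm : 0 < m) {w : Fin (n + 1) × I → k} :
    w ∈ fixA k I n Q m ↔ (tau n Q)^[m] w = w := by
  rw [fixA, dif_pos (finite_fix hQ hm), Set.Finite.mem_toFinset]
  rfl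

theorem mem_fixT_Mt (hQ : 1 < Q) (hm : 0 < m) {w : Fin (n + 1) × I → k} :
    w ∈ fixT k (Mt n Q I ^ m) ↔ (∀ z, w z ≠ 0) ∧ (tau n Q)^[m] w = w := by
  rw [((isRt_Mt hQ).pow hm).mem_fixT, pt_pow, pt_Mt]

theorem exists_inv (hm : m.Coprime (n + 1)) (h0 : 0 < m) : ∃ a b, (n + 1) * b = m * a + 1 := by
  have h1 := Nat.ModEq.pow_totient hm.symm
  obtain ⟨c, hc⟩ : ∃ c, m.totient = c + 1 := ⟨m.totient - 1, by have := Nat.totient_pos.2 h0; omega⟩
  obtain ⟨a, ha⟩ := (Nat.modEq_iff_dvd' (Nat.one_le_pow _ _ n.succ_pos)).1 h1.symm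
  refine ⟨a, (n + 1) ^ c, ?_⟩
  rw [← ha, ← pow_succ', ← hc, Nat.sub_add_cancel (Nat.one_le_pow _ _ n.succ_pos)]

theorem pow_of_fix {w : Fin (n + 1) × I → k} (hw : (tau n Q)^[m] w = w) (z : Fin (n + 1) × I) :
    w z ^ Q ^ m = w z := by
  rw [← tau_iter_mul, mul_comm, Function.iterate_mul, Function.iterate_fixed hw]

theorem eq_of_fix {a b : ℕ} (hab : (n + 1) * b = m * a + 1) {w : Fin (n + 1) × I → k} (hw : (tau n Q)^[m] w = w)
    (t : Fin (n + 1)) (i : I) : w (t, i) = w (0, i) ^ Q ^ (b * t) := by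
  have h1 : ∀ z, tau n Q w z = w z ^ Q ^ b := fun z => by
    rw [← tau_iter_mul, hab, Function.iterate_succ_apply', Function.iterate_mul, Function.iterate_fixed hw]
  induction t using Fin.induction with
  | zero => simp
  | succ t ih =>
    have h2 := h1 (t.castSucc, i)
    rw [tau, if_neg (Fin.castSucc_lt_last t).ne, pow_one, ih, ← pow_mul, ← pow_add] at h2
    simp only [Fin.coeSucc_eq_succ, Fin.val_castSucc] at h2
    rw [h2, Fin.val_succ, mul_add, mul_one]

theorem fix_ext {a b : ℕ} (hab : (n + 1) * b = m * a + 1) {x : I → k} (hx : ∀ i, x i ^ Q ^ m = x i) :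
    (tau n Q)^[m] (fun z : Fin (n + 1) × I => x z.2 ^ Q ^ (b * z.1)) = fun z => x z.2 ^ Q ^ (b * z.1) := by
  have h0 : ∀ c i, x i ^ Q ^ (m * c) = x i := fun c i => by rw [pow_mul]; exact pow_pow_mul (hx i) c
  have h1 : ∀ j, (tau n Q)^[j] (fun z : Fin (n + 1) × I => x z.2 ^ Q ^ (b * z.1)) =
      fun z => x z.2 ^ Q ^ (b * j + b * z.1) := fun j => by
    induction j with
    | zero => simp
    | succ j ih =>
      rw [Function.iterate_succ_apply', ih]
      funext z
      simp only [tau, Fin.val_add_one]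
      split_ifs with h
      · rw [h, Fin.val_last, show b * (j + 1) + b * n = m * a + (b * j + b * 0 + 1) by linarith, pow_add Q (m * a),
          pow_mul (x z.2) (Q ^ (m * a)), h0, ← pow_mul, ← pow_succ]
      · rw [pow_one, show b * j + b * (z.1 + 1) = b * (j + 1) + b * z.1 by ring]
  rw [h1]
  funext z
  rw [pow_add, pow_mul, mul_comm b m, h0]

theorem card_fixT_Mt [IsAlgClosed k] {p e : ℕ} (hp : p.Prime) [CharP k p] (he : 0 < e) (h0 : 0 < m)
    (hm : m.Coprime (n + 1)) : (fixT k (Mt n (p ^ e) I ^ m)).card = ((p ^ e) ^ m - 1) ^ Fintype.card I := by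
  classical
  have hQ : 1 < p ^ e := Nat.one_lt_pow he.ne' hp.one_lt
  have hQm : 1 < (p ^ e) ^ m := Nat.one_lt_pow h0.ne' hQ
  obtain ⟨a, b, hab⟩ := exists_inv hm h0
  have h1 : ((rootF k ((p ^ e) ^ m)).erase 0).card = (p ^ e) ^ m - 1 := by
    rw [Finset.card_erase_of_mem ((mem_rootF hQm).2 (zero_pow (by omega))), ← pow_mul,
      card_rootF hp (Nat.mul_pos he h0)]
  rw [← h1, ← Finset.card_univ, ← Finset.prod_const, ← Fintype.card_piFinset]
  refine Finset.card_bij (fun w _ i => w (0, i)) (fun w hw => ?_) (fun w hw w' hw' h => ?_) fun x hx => ?_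
  · rw [mem_fixT_Mt hQ h0] at hw
    exact Fintype.mem_piFinset.2 fun i => Finset.mem_erase.2 ⟨hw.1 _, (mem_rootF hQm).2 (pow_of_fix hw.2 _)⟩
  · rw [mem_fixT_Mt hQ h0] at hw hw'
    funext z
    rw [eq_of_fix hab hw.2 z.1 z.2, eq_of_fix hab hw'.2 z.1 z.2, congrFun h z.2]
  · have h2 := fun i => Finset.mem_erase.1 (Fintype.mem_piFinset.1 hx i)
    refine ⟨_, (mem_fixT_Mt hQ h0).2 ⟨fun z => pow_ne_zero _ (h2 _).1,
      fix_ext hab fun i => (mem_rootF hQm).1 (h2 i).2⟩, ?_⟩
    funext i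
    simp

/-- extension by zero -/
def zx (T : Finset I) (w : Fin (n + 1) × T → k) : Fin (n + 1) × I → k :=
  fun z => if h : z.2 ∈ T then w (z.1, ⟨z.2, h⟩) else 0

theorem tau_zx (hQ : 1 < Q) (T : Finset I) (w : Fin (n + 1) × T → k) (j : ℕ) :
    (tau n Q)^[j] (zx T w) = zx T ((tau n Q)^[j] w) := by
  induction j with
  | zero => rfl
  | succ j ih =>
    rw [Function.iterate_succ_apply', Function.iterate_succ_apply', ih]
    funext z
    simp only [tau, zx]
    split_ifs <;> first | rfl | exact zero_pow (by omega)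

theorem sum_fixA {E : Type*} [AddCommMonoid E] (hQ : 1 < Q) (h0 : 0 < m) (hm : m.Coprime (n + 1))
    (φ : (Fin (n + 1) × I → k) → E) :
    ∑ w ∈ fixA k I n Q m, φ w = ∑ T : Finset I, ∑ w ∈ fixT k (Mt n Q T ^ m), φ (zx T w) := by
  classical
  obtain ⟨a, b, hab⟩ := exists_inv hm h0
  rw [← Finset.sum_fiberwise (fixA k I n Q m) fun w => Finset.univ.filter fun i => w (0, i) ≠ 0]
  refine Finset.sum_congr rfl fun T _ => (Finset.sum_bij (fun w _ => zx T w) (fun w hw => ?_)
    (fun w _ w' _ h => ?_) (fun w hw => ?_) fun _ _ => rfl).symm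
  · rw [mem_fixT_Mt hQ h0] at hw
    refine Finset.mem_filter.2 ⟨(mem_fixA hQ h0).2 (by rw [tau_zx hQ, hw.2]), ?_⟩
    ext i
    by_cases hi : i ∈ T <;> simp [zx, hi, hw.1]
  · funext z
    simpa [zx] using congrFun h (z.1, z.2.1)
  · obtain ⟨h1, h2⟩ := Finset.mem_filter.1 hw
    rw [mem_fixA hQ h0] at h1
    have h3 : ∀ i, i ∈ T ↔ w (0, i) ≠ 0 := fun i => by rw [← h2]; simp
    have h4 : zx T (fun z => w (z.1, z.2.1)) = w := by
      funext z
      simp only [zx]
      split_ifs with h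
      · rfl
      · rw [eq_of_fix hab h1 z.1 z.2, not_not.1 (mt (h3 _).2 h), zero_pow (pow_ne_zero _ (by omega))]
    refine ⟨fun z => w (z.1, z.2.1), (mem_fixT_Mt hQ h0).2 ⟨fun z => ?_, ?_⟩, h4⟩
    · rw [eq_of_fix hab h1]
      exact pow_ne_zero _ ((h3 _).1 z.2.2)
    · funext z
      have h5 := congrFun (tau_zx hQ T (fun z => w (z.1, z.2.1)) m) (z.1, z.2.1)
      rw [h4, h1] at h5
      simpa [zx] using h5.symm

end fix

theorem emb_inj (T : Finset I) : Function.Injective fun z : Fin (n + 1) × T => ((z.1, z.2.1) : Fin (n + 1) × I) :=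
  fun _ _ h => Prod.ext (Prod.mk.inj h).1 (Subtype.ext (Prod.mk.inj h).2)

theorem eval_kill {k : Type} [Field k] {E : Type*} [Field E] (t : k →*₀ E) (T : Finset I) (w : Fin (n + 1) × T → k)
    (G : MvPolynomial (Fin (n + 1) × I) E) :
    eval (fun z => t (w z)) (killCompl (emb_inj T) G) = eval (fun z => t (zx T w z)) G := by
  induction G using MvPolynomial.induction_on with
  | C a => simp
  | add P Q hP hQ => simp only [map_add, hP, hQ]
  | mul_X P z hP =>
    rw [map_mul, map_mul, map_mul, hP, eval_X]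
    congr 1
    by_cases h : z.2 ∈ T
    · have := killCompl_rename_app (R := E) (emb_inj T) (X (z.1, ⟨z.2, h⟩))
      rw [rename_X] at this
      rw [this, eval_X, zx, dif_pos h]
    · rw [killCompl, aeval_X, dif_neg, zx, dif_neg h, map_zero, map_zero]
      rintro ⟨y, rfl⟩
      exact h y.2.2

/-- **The sums over the fixed points are meromorphic.** -/
theorem mero_tor {E : Type*} [NormedField E] [IsUltrametricDist E] [CompleteSpace E] [IsAlgClosed E] [CharZero E]
    {k : Type} [Field k] [IsAlgClosed k] {p e : ℕ} (hp : p.Prime) [CharP k p] (he : 0 < e) (n : ℕ) {t : k →*₀ E}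
    (ht : IsTeich t) {ρ δ : ℝ} (hρ : 1 < ρ) (hδ : δ < 1) {G : ℕ → MvPolynomial (Fin (n + 1) × I) E}
    (hG : ∀ N, Bd ρ 1 (G N)) (hGG : ∀ N, Bd 1 (δ ^ N) (G (N + 1) - G N)) (om : ℕ → (Fin (n + 1) × I → k) → E)
    (hom : ∀ m, 0 < m → m.Coprime (n + 1) → ∀ w, (tau n (p ^ e))^[m] w = w → Tendsto (fun N =>
      ∏ i ∈ Finset.range m, eval (fun z => t ((tau n (p ^ e))^[i] w z)) (G N)) atTop (𝓝 (om m w))) :
    Mero fun m => if m.Coprime (n + 1) then (RR n : E) * ∑ w ∈ fixA k I n (p ^ e) m, om m w else 0 := by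
  have hQ : 1 < p ^ e := Nat.one_lt_pow he.ne' hp.one_lt
  have hcau : ∀ x : Fin (n + 1) × I → k, CauchySeq fun N => eval (fun z => t (x z)) (G N) := fun x =>
    cauchySeq_of_le_geometric δ 1 hδ fun N => by
      rw [dist_comm, dist_eq_norm, one_mul, ← map_sub]
      exact (hGG N).eval fun z => ht.norm_le _
  choose θ hθ using fun x => cauchySeq_tendsto_of_complete (hcau x)
  have h1 := fun T : Finset I => mero_sub_one_pow ((isRt_Mt (n := n) (I := T) hQ).fred hp ht.injective hρ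
    (G := fun N => killCompl (emb_inj T) (G N)) (θ := fun w => θ (zx T w))
    (fun N u => by rw [coeff_killCompl, ← Finsupp.degree_mapDomain]; exact hG N _)
    fun w => by simpa only [eval_kill] using hθ (zx T w)).mero ((p ^ e : ℕ) : E) T.card
  refine (mero_coprime (Mero.sum Finset.univ _ fun T _ => h1 T) n).congr fun m hm => ?_
  split_ifs with hc
  · have h2 : ∀ w ∈ fixA k I n (p ^ e) m, om m w = ∏ i ∈ Finset.range m, θ ((tau n (p ^ e))^[i] w) := fun w hw =>
      tendsto_nhds_unique (hom m hm hc w ((mem_fixA hQ hm).1 hw)) (tendsto_finsetProd _ fun i _ => hθ _)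
    rw [Finset.sum_congr rfl h2, sum_fixA hQ hm hc]
    congr 1
    refine Finset.sum_congr rfl fun T _ => ?_
    have h3 : ((fixT k (Mt n (p ^ e) T ^ m)).card : E) = (((p ^ e : ℕ) : E) ^ m - 1) ^ T.card := by
      rw [card_fixT_Mt hp he hm hc, Fintype.card_coe, Nat.cast_pow, Nat.cast_sub (Nat.one_le_pow _ _ (by omega)),
        Nat.cast_pow, Nat.cast_one]
    rw [← h3, mul_inv_cancel_left₀ (Nat.cast_ne_zero.2 ((isRt_Mt hQ).pow hm).card_ne_zero)]
    simp only [pt_Mt, tau_zx hQ]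
  · rfl

end Cfsg.Agent.KM.Rt
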